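import Mathlib
import Cfsg.Agent.Lib.CFun.Section
import Cfsg.Agent.Lib.Transfer.Tate
import Cfsg.Agent.Lib.Transfer.Focal
import Cfsg.Agent.Lib.Transfer.NormalComplement
import Cfsg.Agent.Lib.Core.Frattini
import Cfsg.Agent.Lib.Coprime.Action
import Cfsg.Agent.Lib.PGroup.Critical
import Cfsg.Agent.Lib.Solv.AutQuot
import Cfsg.Agent.Lib.Tech.Invol

/-!
# Strongly closed subgroups of a fixed order

If all subgroups of a fixed order `d` (`1 < d < |S|`, and of order `4` when `d = 2`) of a Sylow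
`p`-subgroup `S` are strongly closed and the `p'`-elements have order prime to `p - 1`, then there
is a normal `p`-complement (`npc_of_sc`).  `cent_of_norm_order`: a coprime element normalizing all
subgroups of order `d` and acting trivially on invariant sections of order `p` centralizes.
-/

set_option autoImplicit false

namespace CfsgLib.HSub

open Subgroup CfsgLib.Tech CfsgLib.CFun Cfsg
open scoped commutatorElement

variable {G : Type*} [Group G] {p : ℕ}

/-- The ambient Frattini subgroup. -/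
abbrev phi (X : Subgroup G) : Subgroup G := (frattini X).map X.subtype

/-- Elements normalizing `X` and moving its elements inside cosets of `F`. -/
def stab (X F : Subgroup G) : Subgroup G where
  carrier := {g | g ∈ 𝐍(X) ∧ ∀ a ∈ X, g * a * g⁻¹ * a⁻¹ ∈ F}
  one_mem' := ⟨one_mem _, fun a _ => by simp⟩
  mul_mem' := by
    rintro g h ⟨hg, hg'⟩ ⟨hh, hh'⟩
    refine ⟨mul_mem hg hh, fun a ha => ?_⟩
    have := mul_mem (hg' _ (conj_mem_of_mem_normalizer hh ha)) (hh' a ha)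
    convert this using 1
    group
  inv_mem' := by
    rintro g ⟨hg, hg'⟩
    refine ⟨inv_mem hg, fun a ha => ?_⟩
    have := inv_mem (hg' _ (conj_mem_of_mem_normalizer' hg ha))
    convert this using 1
    group

theorem mem_stab {X F : Subgroup G} {g : G} :
    g ∈ stab X F ↔ g ∈ 𝐍(X) ∧ ∀ a ∈ X, g * a * g⁻¹ * a⁻¹ ∈ F := Iff.rfl

/-- The action on an invariant section of order `p` factors through `(ZMod p)ˣ`. -/
theorem exists_hom_section [hp : Fact p.Prime] {A B Y : Subgroup G} (hi : B.relIndex A = p)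
    (hAB : A ≤ 𝐍(B)) (hYA : Y ≤ 𝐍(A)) (hYB : Y ≤ 𝐍(B)) :
    ∃ φ : Y →* (ZMod p)ˣ, ∀ y : Y, φ y = 1 → ∀ a ∈ A, (y : G) * a * (y : G)⁻¹ * a⁻¹ ∈ B := by
  let ψ : Y →* MulAut A := A.normalizerMonoidHom.comp (inclusion hYA)
  have : (B.subgroupOf A).Normal := by
    refine ⟨fun n hn g => ?_⟩
    exact conj_mem_of_mem_normalizer (G := G) (x := n) (hAB g.2) hn
  have hinv : CfsgLib.Coprime.AutInv ψ (B.subgroupOf A) := fun y x hx =>
    conj_mem_of_mem_normalizer (hYB y.2) hx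
  have hc : Nat.card (A ⧸ B.subgroupOf A) = p := hi
  have : IsCyclic (A ⧸ B.subgroupOf A) := isCyclic_of_prime_card hc
  have he : ∀ n : ℕ, Nat.card (A ⧸ B.subgroupOf A) = n →
      Nonempty (MulAut (A ⧸ B.subgroupOf A) ≃* (ZMod n)ˣ) := by
    rintro n rfl
    exact ⟨IsCyclic.mulAutMulEquiv _⟩
  obtain ⟨e⟩ := he p hc
  refine ⟨e.toMonoidHom.comp (CfsgLib.Solv.quotAut ψ _ hinv), fun y hy a ha => ?_⟩
  have h1 : CfsgLib.Solv.quotAut ψ _ hinv y = 1 := e.injective (by rw [map_one]; exact hy)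
  have h2 := DFunLike.congr_fun h1 ((⟨a⁻¹, inv_mem ha⟩ : A) : A ⧸ B.subgroupOf A)
  rw [CfsgLib.Solv.quotAut_mk, MulAut.one_apply, QuotientGroup.eq] at h2
  have h3 : ((y : G) * a⁻¹ * (y : G)⁻¹)⁻¹ * a⁻¹ ∈ B := h2
  convert h3 using 1
  group

/-- `y` acts trivially on the `Y`-invariant sections of order `p`. -/
def Triv (p : ℕ) (Y : Subgroup G) (y : G) : Prop :=
  ∀ A B : Subgroup G, B.relIndex A = p → A ≤ 𝐍(B) → Y ≤ 𝐍(A) → Y ≤ 𝐍(B) →
    ∀ a ∈ A, y * a * y⁻¹ * a⁻¹ ∈ B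

theorem triv_of_hom [Fact p.Prime] {Y : Subgroup G} {y : G} (hy : y ∈ Y)
    (h : ∀ φ : Y →* (ZMod p)ˣ, φ ⟨y, hy⟩ = 1) : Triv p Y y := by
  intro A B hi hAB hYA hYB
  obtain ⟨φ, hφ⟩ := exists_hom_section hi hAB hYA hYB
  exact hφ ⟨y, hy⟩ (h φ)

theorem triv_of_coprime [hp : Fact p.Prime] {Y : Subgroup G} {y : G} (hy : y ∈ Y)
    (h : (orderOf y).Coprime (p - 1)) : Triv p Y y := by
  refine triv_of_hom hy fun φ => ?_
  have h1 : orderOf (φ ⟨y, hy⟩) ∣ orderOf y := by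
    simpa using orderOf_map_dvd φ ⟨y, hy⟩
  have h2 : orderOf (φ ⟨y, hy⟩) ∣ p - 1 := by
    rw [← ZMod.card_units p]
    exact orderOf_dvd_card
  exact orderOf_eq_one_iff.1 (Nat.eq_one_of_dvd_coprimes h h1 h2)

section Finite

variable [Finite G] [hp : Fact p.Prime]

theorem mem_phi_of_max {X : Subgroup G} (hX : IsPGroup p X) {x : G} (hx : x ∈ X)
    (h : ∀ M : Subgroup G, M ≤ X → M.relIndex X = p → x ∈ M) : x ∈ phi X := by
  refine ⟨⟨x, hx⟩, CfsgLib.Core.mem_frattini_iff.2 fun M hM => ?_, rfl⟩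
  have h1 : (M.map X.subtype).relIndex X = p := by
    rw [relIndex, subgroupOf, comap_map_eq_self_of_injective X.subtype_injective]
    exact CfsgLib.Core.index_eq_of_isCoatom_of_isPGroup hX hM
  obtain ⟨y, hy, hyx⟩ := h _ (map_subtype_le _) h1
  rwa [show (⟨x, hx⟩ : X) = y from Subtype.ext hyx.symm]

theorem le_norm_of_relIndex {X M : Subgroup G} (hX : IsPGroup p X) (hM : M ≤ X)
    (hi : M.relIndex X = p) : X ≤ 𝐍(M) :=
  (normal_subgroupOf_iff_le_normalizer hM).1 (CfsgLib.Core.normal_of_index_eq_of_isPGroup hX hi)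

theorem exists_max_ge {X H : Subgroup G} (hX : IsPGroup p X) (hH : H ≤ X) (hne : H ≠ X) :
    ∃ M : Subgroup G, H ≤ M ∧ M ≤ X ∧ M.relIndex X = p := by
  obtain ⟨M, -, h1, h2⟩ := CfsgLib.Core.exists_normal_index_eq_ge_of_isPGroup hX
    (H := H.subgroupOf X) (fun h => hne (le_antisymm hH (subgroupOf_eq_top.1 h)))
  refine ⟨M.map X.subtype, fun x hx => ⟨⟨x, hH hx⟩, h1 hx, rfl⟩, map_subtype_le _, ?_⟩
  rw [relIndex, subgroupOf, comap_map_eq_self_of_injective X.subtype_injective]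
  exact h2

theorem exists_between {Q A : Subgroup G} (hQ : IsPGroup p Q) (hA : A ≤ Q) {k : ℕ}
    (h1 : Nat.card A ≤ p ^ k) (h2 : p ^ k ≤ Nat.card Q) :
    ∃ B : Subgroup G, A ≤ B ∧ B ≤ Q ∧ Nat.card B = p ^ k := by
  obtain ⟨a, ha⟩ := IsPGroup.iff_card.1 (hQ.to_le hA)
  obtain ⟨b, hb⟩ := IsPGroup.iff_card.1 hQ
  rw [ha] at h1
  rw [hb] at h2
  have h1' := (Nat.pow_le_pow_iff_right hp.out.one_lt).1 h1
  have h2' := (Nat.pow_le_pow_iff_right hp.out.one_lt).1 h2
  obtain ⟨K, hK, hAK⟩ := Sylow.exists_subgroup_card_pow_prime_le (G := Q) p (n := a) (m := k)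
    (hb ▸ pow_dvd_pow p h2') (A.subgroupOf Q)
    (by rw [Nat.card_congr (subgroupOfEquivOfLe hA).toEquiv, ha]) h1'
  refine ⟨K.map Q.subtype, fun x hx => ⟨⟨x, hA hx⟩, hAK hx, rfl⟩, map_subtype_le _, ?_⟩
  rw [card_map_of_injective Q.subtype_injective, hK]

omit hp in
theorem le_norm_of_cyclic {X M Y : Subgroup G} (hX : IsCyclic X) (hM : M ≤ X) (hY : Y ≤ 𝐍(X)) :
    Y ≤ 𝐍(M) := by
  intro y hy
  refine mem_normalizer_of_forall fun m hm => ?_
  obtain ⟨g, hg⟩ := hX.exists_generator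
  obtain ⟨k, hk⟩ := hg ⟨_, conj_mem_of_mem_normalizer (hY hy) g.2⟩
  obtain ⟨j, hj⟩ := hg ⟨m, hM hm⟩
  have hk' : (g : G) ^ k = y * g * y⁻¹ := congrArg Subtype.val hk
  have hj' : (g : G) ^ j = m := congrArg Subtype.val hj
  have : y * m * y⁻¹ = m ^ k := by
    rw [← hj', ← conj_zpow, ← hk', ← zpow_mul, ← zpow_mul, mul_comm]
  rw [this]
  exact zpow_mem hm k

theorem cent_of_stab_phi {X : Subgroup G} (hX : IsPGroup p X) {y : G} (hc : (orderOf y).Coprime p)
    (h : y ∈ stab X (phi X)) : y ∈ 𝐂(X) := by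
  refine CfsgLib.Coprime.le_centralizer_of_commutator_le_frattini (A := zpowers y) ?_ ?_
    (mem_zpowers y)
  · obtain ⟨k, hk⟩ := IsPGroup.iff_card.1 (hX.to_subgroup (frattini X))
    rw [hk, Nat.card_zpowers]
    exact hc.pow_right k
  · rw [Subgroup.commutator_comm, commutator_le]
    intro a ha b hb
    exact (zpowers_le.2 h ha).2 b hb

theorem cent_of_max_inv {X Y : Subgroup G} (hX : IsPGroup p X) {y : G} (hy : y ∈ Y)
    (hc : (orderOf y).Coprime p) (ht : Triv p Y y) (hYX : Y ≤ 𝐍(X))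
    (h : ∀ M : Subgroup G, M ≤ X → M.relIndex X = p → Y ≤ 𝐍(M)) : y ∈ 𝐂(X) := by
  refine cent_of_stab_phi hX hc ⟨hYX hy, fun a ha => mem_phi_of_max hX
    (mul_mem (conj_mem_of_mem_normalizer (hYX hy) ha) (inv_mem ha)) fun M hM hi => ?_⟩
  exact ht X M hi (le_norm_of_relIndex hX hM hi) hYX (h M hM hi) a ha

theorem cent_of_cyclic {X Y : Subgroup G} (hX : IsPGroup p X) {y : G} (hy : y ∈ Y)
    (hc : (orderOf y).Coprime p) (ht : Triv p Y y) (hYX : Y ≤ 𝐍(X)) (hcyc : IsCyclic X) :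
    y ∈ 𝐂(X) :=
  cent_of_max_inv hX hy hc ht hYX fun _ hM _ => le_norm_of_cyclic hcyc hM hYX

omit hp [Finite G] in
theorem card_of_relIndex {M X : Subgroup G} (hM : M ≤ X) {d : ℕ} (hp0 : p ≠ 0)
    (hi : M.relIndex X = p) (hX : Nat.card X = d * p) : Nat.card M = d := by
  have := card_mul_relIndex' hM
  rw [hi, hX] at this
  exact Nat.eq_of_mul_eq_mul_right (Nat.pos_of_ne_zero hp0) this

theorem pow_succ_le_of_lt {Q : Subgroup G} (hQ : IsPGroup p Q) {k : ℕ} (h : p ^ k < Nat.card Q) :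
    p ^ (k + 1) ≤ Nat.card Q := by
  obtain ⟨b, hb⟩ := IsPGroup.iff_card.1 hQ
  rw [hb] at h ⊢
  exact Nat.pow_le_pow_right hp.out.pos ((Nat.pow_lt_pow_iff_right hp.out.one_lt).1 h)

/-- A coprime element normalizing all subgroups of order `p ^ k < |Q|` centralizes them. -/
theorem cent_of_card {Q Y : Subgroup G} (hQ : IsPGroup p Q) {y : G} (hy : y ∈ Y)
    (hc : (orderOf y).Coprime p) (ht : Triv p Y y) {k : ℕ} (hk : p ^ k < Nat.card Q)
    (h : ∀ F : Subgroup G, F ≤ Q → Nat.card F = p ^ k → Y ≤ 𝐍(F))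
    {F : Subgroup G} (hF : F ≤ Q) (hFc : Nat.card F = p ^ k) : y ∈ 𝐂(F) := by
  obtain ⟨E, hFE, hEQ, hE⟩ := exists_between hQ hF (k := k + 1)
    (hFc ▸ Nat.pow_le_pow_right hp.out.pos (Nat.le_succ k)) (pow_succ_le_of_lt hQ hk)
  have hEp := hQ.to_le hEQ
  by_cases hcyc : IsCyclic E
  · exact cent_of_cyclic (hQ.to_le hF) hy hc ht (h F hF hFc) (Subgroup.isCyclic_of_le hFE)
  have hmax : ∀ M : Subgroup G, M ≤ E → M.relIndex E = p → Y ≤ 𝐍(M) := fun M hM hi =>
    h M (hM.trans hEQ) (card_of_relIndex hM hp.out.ne_zero hi (by rw [hE, pow_succ]))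
  refine cent_anti hFE (cent_of_max_inv hEp hy hc ht (fun g hg => ?_) hmax)
  refine mem_normalizer_of_forall fun x hx => ?_
  obtain ⟨M, h1, h2, h3⟩ := exists_max_ge hEp (zpowers_le.2 hx) (by
    intro h0
    exact hcyc (h0 ▸ inferInstance))
  exact h2 (conj_mem_of_mem_normalizer (hmax M h2 h3 hg) (h1 (mem_zpowers x)))

/-- A coprime element normalizing all subgroups of order `d` (and `4` when `d = 2`) and acting
trivially on invariant sections of order `p` centralizes. -/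
theorem cent_of_norm_order {Q Y : Subgroup G} (hQ : IsPGroup p Q) {y : G} (hy : y ∈ Y)
    (hyQ : y ∈ 𝐍(Q)) (hc : (orderOf y).Coprime p) (ht : Triv p Y y) {k : ℕ} (hk0 : k ≠ 0)
    (hk : p ^ k < Nat.card Q)
    (h : ∀ F : Subgroup G, F ≤ Q → (Nat.card F = p ^ k ∨ (p ^ k = 2 ∧ Nat.card F = 4)) →
      Y ≤ 𝐍(F)) : y ∈ 𝐂(Q) := by
  have hsmall : ∀ x ∈ Q, orderOf x ≤ p ^ k → y * x * y⁻¹ = x := by
    intro x hx ho
    obtain ⟨F, h1, h2, h3⟩ := exists_between hQ (zpowers_le.2 hx) (k := k)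
      (by rwa [Nat.card_zpowers]) hk.le
    exact mem_cent_iff.1 (cent_of_card hQ hy hc ht hk (fun F hF hFc => h F hF (Or.inl hFc)) h2 h3)
      x (h1 (mem_zpowers x))
  have hco : (orderOf (MulAut.conj y)).Coprime p :=
    Nat.Coprime.coprime_dvd_left (orderOf_map_dvd MulAut.conj y) hc
  have hpk : p ≤ p ^ k := Nat.le_self_pow hk0 p
  rw [mem_cent_iff]
  by_cases h2 : p = 2
  · subst h2
    refine CfsgLib.PGroup.aut_apply_eq_of_fix_pow_eq_one (n := 2) two_ne_zero (by norm_num) hco hQ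
      (fun x hx => conj_mem_of_mem_normalizer hyQ hx) fun x hx hx4 => ?_
    have h4 : orderOf x ∣ 2 ^ 2 := orderOf_dvd_of_pow_eq_one hx4
    by_cases ho : orderOf x ≤ 2 ^ k
    · exact hsmall x hx ho
    have hk1 : k = 1 := by
      by_contra hk1
      exact ho ((Nat.le_of_dvd (by norm_num) h4).trans
        (Nat.pow_le_pow_right (by norm_num) (by omega)))
    subst hk1
    obtain ⟨j, hj, hj'⟩ := (Nat.dvd_prime_pow Nat.prime_two).1 h4
    have hj2 : j = 2 := by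
      by_contra hj2
      exact ho (hj' ▸ Nat.pow_le_pow_right (by norm_num) (by omega))
    subst hj2
    have hz : zpowers x ≤ Q := zpowers_le.2 hx
    exact mem_cent_iff.1 (cent_of_cyclic (hQ.to_le hz) hy hc ht
      (h _ hz (Or.inr ⟨rfl, by rw [Nat.card_zpowers, hj']; rfl⟩)) inferInstance) x (mem_zpowers x)
  · refine CfsgLib.PGroup.aut_apply_eq_of_fix_pow_eq_one (n := 1) one_ne_zero (by simpa using h2)
      hco hQ (fun x hx => conj_mem_of_mem_normalizer hyQ hx) fun x hx hxp => ?_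
    rw [pow_one] at hxp
    exact hsmall x hx ((Nat.le_of_dvd hp.out.pos (orderOf_dvd_of_pow_eq_one hxp)).trans hpk)

/-- Tate's theorem together with Alperin's fusion theorem. -/
theorem npc_of_local {S H : Subgroup G} (hS : IsSylowIn p S H)
    (h : ∀ R : Subgroup G, R ≤ S → ∀ y ∈ H, y ∈ 𝐍(R) → (orderOf y).Coprime p →
      ∀ a ∈ R, y * a * y⁻¹ * a⁻¹ ∈ phi S) : HasNormalPComplement p H := by
  have key := alperin_induction_extremal hS (fun T g => ∀ a ∈ T, g * a * g⁻¹ * a⁻¹ ∈ phi S)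
    (fun T a b _ _ _ _ _ h1 h2 x hx => by
      have := mul_mem (h2 _ (conj_mem_cj.2 hx)) (h1 x hx)
      convert this using 1
      group)
    (fun T U g hTU _ _ _ h1 a ha => h1 a (hTU ha))
    (fun T hT hsyl _ x hx => by
      obtain ⟨r, hr, e, he, rfl⟩ := sylIn_exists_mul hsyl (E := stab T (phi S))
        (fun y hy hc => ⟨hy.2, h T hT y hy.1 hy.2 hc⟩) hx
      refine (mul_mem (show r ∈ stab T (phi S) from ⟨hr.2, fun a ha => ?_⟩) he).2
      exact CfsgLib.Core.commutator_le_map_frattini hS.pgroup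
        (conj_mul_inv_mem_commutator hr.1 (hT ha)))
  have hfoc : S ⊓ ⁅H, H⁆ ≤ phi S := focal_le hS fun g hg a ha hga =>
    key (zpowers a) (zpowers_le.2 ha) g hg (by rw [cj_zpowers]; exact zpowers_le.2 hga) a
      (mem_zpowers a)
  have := CfsgLib.Transfer.pResidual_normal p H
  rw [← CfsgLib.Transfer.hasNormalPComplement_pResidual_iff]
  refine CfsgLib.Transfer.hasNormalPComplement_of_inf_le_frattini hS.toSylow _ fun x hx => ?_
  have h1 := CfsgLib.Transfer.pResidual_inf_sylow_le_focalSubgroup hS.toSylow hx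
  rw [← Subgroup.commutator_inf_eq_focalSubgroup] at h1
  have h2 : (x : G) ∈ S ⊓ ⁅H, H⁆ := by
    refine ⟨hS.mem_toSylow.1 h1.2, ?_⟩
    have : ⁅H, H⁆ = (_root_.commutator H).map H.subtype := by
      rw [commutator_def, map_commutator, ← MonoidHom.range_eq_map, range_subtype]
    rw [this]
    exact ⟨x, h1.1, rfl⟩
  have h3 := hfoc h2
  rw [phi, ← CfsgLib.Core.map_map_frattini_subgroupOf hS.le] at h3
  obtain ⟨z, hz, hzx⟩ := h3
  rw [show x = z from Subtype.ext hzx.symm]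
  exact hz

theorem npc_of_cyclic {S H : Subgroup G} (hS : IsSylowIn p S H)
    (hco : ∀ y ∈ H, (orderOf y).Coprime p → (orderOf y).Coprime (p - 1)) (hcyc : IsCyclic S) :
    HasNormalPComplement p H := by
  refine npc_of_local hS fun R hR y hy hyR hc a ha => ?_
  have := cent_of_cyclic (hS.pgroup.to_le hR) (mem_zpowers y) hc
    (triv_of_coprime (mem_zpowers y) (hco y hy hc)) (zpowers_le.2 hyR) (Subgroup.isCyclic_of_le hR)
  rw [mem_cent_iff.1 this a ha, mul_inv_cancel]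
  exact one_mem _

/-- Normal `p`-complement from strongly closed subgroups of a fixed order. -/
theorem npc_of_sc {S H : Subgroup G} (hS : IsSylowIn p S H)
    (hco : ∀ y ∈ H, (orderOf y).Coprime p → (orderOf y).Coprime (p - 1)) {k : ℕ} (hk0 : k ≠ 0)
    (hk : p ^ k < Nat.card S)
    (h : ∀ F : Subgroup G, F ≤ S → (Nat.card F = p ^ k ∨ (p ^ k = 2 ∧ Nat.card F = 4)) →
      ∀ g ∈ H, ∀ x ∈ F, g * x * g⁻¹ ∈ S → g * x * g⁻¹ ∈ F) : HasNormalPComplement p H := by
  refine npc_of_local hS fun R hR y hy hyR hc a ha => ?_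
  have ht := triv_of_coprime (mem_zpowers y) (hco y hy hc)
  have hRp := hS.pgroup.to_le hR
  by_cases hRk : p ^ k < Nat.card R
  · have := cent_of_norm_order hRp (mem_zpowers y) hyR hc ht hk0 hRk fun F hF hFc =>
      zpowers_le.2 (mem_normalizer_of_forall fun x hx =>
        h F (hF.trans hR) hFc y hy x hx (hR (conj_mem_of_mem_normalizer hyR (hF hx))))
    rw [mem_cent_iff.1 this a ha, mul_inv_cancel]
    exact one_mem _
  obtain ⟨E, hRE, hES, hE⟩ := exists_between hS.pgroup hR (k := k + 1)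
    ((not_lt.1 hRk).trans (Nat.pow_le_pow_right hp.out.pos (Nat.le_succ k)))
    (pow_succ_le_of_lt hS.pgroup hk)
  have hEp := hS.pgroup.to_le hES
  have hya := mul_mem (conj_mem_of_mem_normalizer hyR ha) (inv_mem ha)
  refine CfsgLib.Core.map_frattini_mono_of_isPGroup hS.pgroup hES
    (mem_phi_of_max hEp (hRE hya) fun M hM hi => ?_)
  have hMc := card_of_relIndex hM hp.out.ne_zero hi (by rw [hE, pow_succ])
  have hEM := le_norm_of_relIndex hEp hM hi
  by_cases hRM : R ≤ M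
  · exact hRM hya
  have hi' : (M ⊓ R).relIndex R = p := by
    rw [inf_relIndex_right]
    have : (M.subgroupOf E).Normal := (normal_subgroupOf_iff_le_normalizer hM).2 hEM
    have h1 : M.relIndex R ∣ p := by
      rw [← hi, ← relIndex_subgroupOf hRE]
      exact relIndex_dvd_index_of_normal _ _
    rcases (Nat.dvd_prime hp.out).1 h1 with h2 | h2
    · exact absurd (relIndex_eq_one.1 h2) hRM
    · exact h2
  refine (ht R (M ⊓ R) hi' (le_norm_of_relIndex hRp inf_le_right hi') (zpowers_le.2 hyR)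
    (zpowers_le.2 (mem_normalizer_of_forall fun x hx => ?_)) a ha).1
  have h1 := conj_mem_of_mem_normalizer hyR hx.2
  exact ⟨h M (hM.trans hES) (Or.inl hMc) y hy x hx.1 (hR h1), h1⟩

/-- `F ^ g ∩ N(F) ≤ F` for all `g`. -/
def HS (F : Subgroup G) : Prop := ∀ g : G, cj g F ⊓ 𝐍(F) ≤ F

theorem HS.le_norm {F Q : Subgroup G} (h : HS F) (hQ : IsPGroup p Q) (hF : F ≤ Q) : Q ≤ 𝐍(F) := by
  by_contra hn
  have hlt : Q ⊓ 𝐍(F) < Q := lt_of_le_of_ne inf_le_left fun h0 => hn (h0 ▸ inf_le_right)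
  obtain ⟨g, hgQ, hg, hgn⟩ := exists_mem_normalizer_of_lt hQ hlt
  refine hg ⟨hgQ, mem_normalizer_of_cj_le fun x hx => h g ⟨hx, ?_⟩⟩
  exact (cj_le_of_le_of_mem_norm (le_inf hF le_normalizer) hgn hx).2

theorem HS.sc {F Q : Subgroup G} (h : HS F) (hQ : IsPGroup p Q) (hF : F ≤ Q) (g : G) {x : G}
    (hx : x ∈ F) (hg : g * x * g⁻¹ ∈ Q) : g * x * g⁻¹ ∈ F :=
  h g ⟨conj_mem_cj.2 hx, h.le_norm hQ hF hg⟩

omit [Finite G] in
theorem coprime_pred_of_min {H : Subgroup G} (hmin : ∀ q : ℕ, q.Prime → q ∣ Nat.card H → p ≤ q)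
    {y : G} (hy : y ∈ H) : (orderOf y).Coprime (p - 1) := by
  refine Nat.coprime_of_dvd fun q hq h1 h2 => ?_
  have h3 := hmin q hq (h1.trans (H.orderOf_dvd_natCard hy))
  have h4 := Nat.le_of_dvd (by have := hp.out.two_le; omega) h2
  have := hp.out.two_le
  omega

end Finite

end CfsgLib.HSub
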